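import Groth.Agent.AbSubobject.Lattice
import Mathlib.Order.JordanHolder

set_option autoImplicit false
universe v u
open CategoryTheory CategoryTheory.Limits

namespace Groth.Agent.AbJH

variable {A : Type u} [Category.{v} A] [Abelian A] {X : A}

noncomputable abbrev Q (a b : Subobject X) (h : a ≤ b) : A := cokernel (Subobject.ofLE a b h)

noncomputable def castQ {a a' b b' : Subobject X} (ha : a = a') (hb : b = b') (h : a ≤ b) :
    Q a b h ≅ Q a' b' (ha ▸ hb ▸ h) := by
  subst ha; subst hb; exact Iso.refl _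

@[irreducible] noncomputable def secondIso (x y : Subobject X) :
    Q (x ⊓ y) y inf_le_right ≅ Q x (x ⊔ y) le_sup_left := by
  let φ : (y : A) ⟶ Q x (x ⊔ y) le_sup_left := Subobject.ofLE y (x ⊔ y) le_sup_right ≫ cokernel.π _
  have hz : Subobject.ofLE (x ⊓ y) y inf_le_right ≫ φ = 0 := by
    simp only [φ, Subobject.ofLE_comp_ofLE_assoc]
    rw [show Subobject.ofLE (x ⊓ y) (x ⊔ y) (inf_le_right.trans le_sup_right) =
      Subobject.ofLE (x ⊓ y) x inf_le_left ≫ Subobject.ofLE x (x ⊔ y) le_sup_left by simp,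
      Category.assoc, cokernel.condition, comp_zero]
  haveI : Epi φ := by
    obtain ⟨T', π, hπ, u, v, hu, hv, huv⟩ :=
      AbSubobject.Lattice.exists_sum_of_sup_factors (P := x) (Q := y) (x ⊔ y).arrow (Subobject.factors_self _)
    have e : π = x.factorThru u hu ≫ Subobject.ofLE x (x ⊔ y) le_sup_left +
        y.factorThru v hv ≫ Subobject.ofLE y (x ⊔ y) le_sup_right := by
      rw [← cancel_mono (x ⊔ y).arrow, Preadditive.add_comp]
      simp [huv]
    haveI : Epi (π ≫ cokernel.π (Subobject.ofLE x (x ⊔ y) le_sup_left)) := epi_comp _ _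
    refine epi_of_epi_fac (show y.factorThru v hv ≫ φ =
      π ≫ cokernel.π (Subobject.ofLE x (x ⊔ y) le_sup_left) from ?_)
    rw [e, Preadditive.add_comp, Category.assoc, cokernel.condition, comp_zero, zero_add,
      Category.assoc]
  have hex : (ShortComplex.mk _ φ hz).Exact := by
    rw [ShortComplex.exact_iff_exact_up_to_refinements]
    intro T z hz'
    have hz'' : z ≫ φ = 0 := hz'
    simp only [φ] at hz''
    rw [← Category.assoc] at hz''
    have h1 := Abelian.monoLift_comp _ _ hz''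
    have h2 : x.Factors (z ≫ y.arrow) := by
      rw [show z ≫ y.arrow = Abelian.monoLift _ _ hz'' ≫ x.arrow by
        rw [← Subobject.ofLE_arrow (le_sup_left : x ≤ x ⊔ y), ← Category.assoc, h1, Category.assoc,
          Subobject.ofLE_arrow]]
      exact Subobject.factors_comp_arrow _
    have h3 : (x ⊓ y).Factors (z ≫ y.arrow) :=
      (Subobject.inf_factors _).2 ⟨h2, Subobject.factors_comp_arrow _⟩
    refine ⟨T, 𝟙 T, inferInstance, (x ⊓ y).factorThru _ h3, ?_⟩
    rw [← cancel_mono y.arrow]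
    simp
  haveI : Mono (cokernel.desc (Subobject.ofLE (x ⊓ y) y inf_le_right) φ hz) := hex.mono_cokernelDesc
  haveI : Epi (cokernel.desc (Subobject.ofLE (x ⊓ y) y inf_le_right) φ hz) :=
    epi_of_epi_fac (cokernel.π_desc _ φ hz)
  haveI : IsIso (cokernel.desc (Subobject.ofLE (x ⊓ y) y inf_le_right) φ hz) := isIso_of_mono_of_epi _
  exact asIso (cokernel.desc (Subobject.ofLE (x ⊓ y) y inf_le_right) φ hz)

noncomputable def obj (p : Subobject X × Subobject X) : A := Q (p.1 ⊓ p.2) p.2 inf_le_right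

noncomputable def objIso {a b : Subobject X} (h : a ≤ b) : obj (a, b) ≅ Q a b h :=
  castQ (inf_eq_left.2 h) rfl _

attribute [irreducible] obj

lemma obj_second (x y : Subobject X) : Nonempty (obj (x, x ⊔ y) ≅ obj (x ⊓ y, y)) := by
  have e1 := objIso (a := x) (b := x ⊔ y) le_sup_left
  have e2 := secondIso x y
  have e3 := objIso (a := x ⊓ y) (b := y) inf_le_right
  exact ⟨e1.trans (e2.symm.trans e3.symm)⟩

lemma equivalence_obj : Equivalence fun p q : Subobject X × Subobject X => Nonempty (obj p ≅ obj q) :=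
  ⟨fun _ => ⟨Iso.refl _⟩, fun ⟨e⟩ => ⟨e.symm⟩, fun ⟨e⟩ ⟨f⟩ => ⟨e.trans f⟩⟩

theorem iso_of_rel {a b c d : Subobject X} (hab : a ≤ b) (hcd : c ≤ d)
    (h : JordanHolderLattice.Iso (a, b) (c, d)) : Nonempty (Q a b hab ≅ Q c d hcd) := by
  have key := JordanHolderLattice.Iso.rel (fun p q => Nonempty (obj p ≅ obj q)) (equivalence_obj.refl _)
    (fun hh => equivalence_obj.symm hh) (fun h1 h2 => equivalence_obj.trans h1 h2)
    (fun {x y} _ => obj_second x y) h
  obtain ⟨e⟩ := key
  exact ⟨(objIso hab).symm.trans (e.trans (objIso hcd))⟩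

end Groth.Agent.AbJH
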